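import Groth.Prelude.Def_FDesc
import Groth.Prelude.Def_FlatMod2
import Groth.Agent.S9501
import Groth.Agent.KFlatLib.StalkTensor
import Groth.Agent.KFlatLib.StalkPull
import Groth.Agent.LCILocusLib.Scheme

/-! # Flatness of `F ⊗_Y G'` on a fibre product -/

set_option autoImplicit false
set_option backward.isDefEq.respectTransparency false
universe u
open CategoryTheory CategoryTheory.Limits AlgebraicGeometry IsLocalRing TensorProduct

namespace FDescTensLib

section Alg

/-- flatness of a tensor product over the base of the second factor -/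
theorem flat_module_tensor {D A N G : Type u} [CommRing D] [CommRing A] [Algebra D A] [AddCommGroup N] [Module A N]
    [Module D N] [IsScalarTower D A N] [AddCommGroup G] [Module A G] [Module D G] [IsScalarTower D A G]
    [Module.Flat A N] [Module.Flat D G] : Module.Flat D (N ⊗[A] G) := by
  rw [Module.Flat.iff_lTensor_preserves_injective_linearMap]
  intro P Q _ _ _ _ φ hφ
  let F : G ⊗[D] P →ₗ[A] G ⊗[D] Q := AlgebraTensorModule.lTensor A G φ
  have hF : Function.Injective F := Module.Flat.lTensor_preserves_injective_linearMap (M := G) φ hφ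
  have h1 := Module.Flat.lTensor_preserves_injective_linearMap (R := A) (M := N) F hF
  let eP := AlgebraTensorModule.assoc D A A N G P
  let eQ := AlgebraTensorModule.assoc D A A N G Q
  have h2 : (φ.lTensor (N ⊗[A] G) : _ → _) = eQ.symm ∘ (LinearMap.lTensor N F) ∘ eP := funext fun t => by
    rw [Function.comp_apply, Function.comp_apply]
    refine eQ.injective ?_
    rw [eQ.apply_symm_apply]
    induction t with
    | zero => simp
    | add a b ha hb => simp only [map_add, ha, hb]
    | tmul c p =>
      induction c with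
      | zero => simp
      | add a b ha hb => simp only [TensorProduct.add_tmul, map_add, ha, hb]
      | tmul b n => rfl
  rw [h2]
  exact eQ.symm.injective.comp (h1.comp eP.injective)

/-- flatness descends along a faithfully flat module -/
theorem flat_of_module_tensor {D A N G : Type u} [CommRing D] [CommRing A] [Algebra D A] [AddCommGroup N] [Module A N]
    [Module D N] [IsScalarTower D A N] [AddCommGroup G] [Module A G] [Module D G] [IsScalarTower D A G]
    [Module.FaithfullyFlat A N] [Module.Flat D (N ⊗[A] G)] : Module.Flat D G := by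
  rw [Module.Flat.iff_lTensor_preserves_injective_linearMap]
  intro P Q _ _ _ _ φ hφ
  let F : G ⊗[D] P →ₗ[A] G ⊗[D] Q := AlgebraTensorModule.lTensor A G φ
  change Function.Injective F
  rw [← Module.FaithfullyFlat.lTensor_injective_iff_injective A N F]
  have h1 := Module.Flat.lTensor_preserves_injective_linearMap (M := N ⊗[A] G) φ hφ
  let eP := AlgebraTensorModule.assoc D A A N G P
  let eQ := AlgebraTensorModule.assoc D A A N G Q
  have h2 : (LinearMap.lTensor N F : _ → _) = eQ ∘ (φ.lTensor (N ⊗[A] G)) ∘ eP.symm := funext fun t => by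
    obtain ⟨t, rfl⟩ := eP.surjective t
    rw [Function.comp_apply, Function.comp_apply, eP.symm_apply_apply]
    induction t with
    | zero => simp
    | add a b ha hb => simp only [map_add, ha, hb]
    | tmul c p =>
      induction c with
      | zero => simp
      | add a b ha hb => simp only [TensorProduct.add_tmul, map_add, ha, hb]
      | tmul b n => rfl
  rw [h2]
  exact eQ.injective.comp (h1.comp eP.symm.injective)

/-- a tensor product has no closed fibre where a factor has none -/
theorem smul_top_tensor_of_top {D A N G : Type u} [CommRing D] [CommRing A] [Algebra D A] [AddCommGroup N]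
    [Module A N] [Module D N] [IsScalarTower D A N] [AddCommGroup G] [Module A G] [Module D G] [IsScalarTower D A G]
    (I : Ideal D) (h : I • (⊤ : Submodule D G) = ⊤) : I • (⊤ : Submodule D (N ⊗[A] G)) = ⊤ := by
  rw [eq_top_iff]
  intro t _
  induction t with
  | zero => exact zero_mem _
  | add a b ha hb => exact add_mem (ha Submodule.mem_top) (hb Submodule.mem_top)
  | tmul n g =>
    have hg : g ∈ I • (⊤ : Submodule D G) := by rw [h]; trivial
    refine Submodule.smul_induction_on hg (fun d hd g' _ => ?_) fun a b ha hb => ?_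
    · rw [← algebraMap_smul A d g', TensorProduct.tmul_smul, algebraMap_smul]
      exact Submodule.smul_mem_smul hd trivial
    · rw [TensorProduct.tmul_add]; exact add_mem ha hb

/-- the closed fibre of a tensor product with a faithfully flat module -/
theorem smul_top_tensor_iff {D A N G : Type u} [CommRing D] [CommRing A] [Algebra D A] [AddCommGroup N] [Module A N]
    [Module D N] [IsScalarTower D A N] [AddCommGroup G] [Module A G] [Module D G] [IsScalarTower D A G]
    [Module.FaithfullyFlat A N] (I : Ideal D) :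
    I • (⊤ : Submodule D (N ⊗[A] G)) ≠ ⊤ ↔ I • (⊤ : Submodule D G) ≠ ⊤ := by
  refine not_congr ⟨fun h => ?_, fun h => ?_⟩
  · let J : Submodule A G := I.map (algebraMap D A) • ⊤
    have hle : ∀ x ∈ J, x ∈ I • (⊤ : Submodule D G) := by
      intro x hx
      refine Submodule.smul_induction_on hx (fun a ha n _ => ?_) fun a b ha hb => add_mem ha hb
      clear hx x
      induction ha using Submodule.span_induction generalizing n with
      | mem y hy =>
        obtain ⟨d, hd, rfl⟩ := hy
        rw [algebraMap_smul]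
        exact Submodule.smul_mem_smul hd trivial
      | zero => rw [zero_smul]; exact zero_mem _
      | add y z _ _ hy hz => rw [add_smul]; exact add_mem (hy n trivial) (hz n trivial)
      | smul c y _ hy => rw [smul_eq_mul, mul_comm, mul_smul]; exact hy _ trivial
    by_contra hne
    haveI : Nontrivial (G ⧸ J) := Submodule.Quotient.nontrivial_iff.2 fun hJ =>
      hne (eq_top_iff.2 fun x _ => hle x (hJ ▸ Submodule.mem_top))
    haveI := Module.FaithfullyFlat.lTensor_nontrivial A N (G ⧸ J)
    suffices Subsingleton (N ⊗[A] (G ⧸ J)) from false_of_nontrivial_of_subsingleton (N ⊗[A] (G ⧸ J))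
    refine subsingleton_of_forall_eq 0 fun t => ?_
    obtain ⟨s, rfl⟩ := LinearMap.lTensor_surjective N J.mkQ_surjective t
    have hs : s ∈ I • (⊤ : Submodule D (N ⊗[A] G)) := by rw [h]; trivial
    refine Submodule.smul_induction_on hs (fun d hd m hm => ?_) fun a b ha hb => by rw [map_add, ha, hb, add_zero]
    clear hs s hm
    induction m with
    | zero => rw [smul_zero, map_zero]
    | add a b ha hb => rw [smul_add, map_add, ha, hb, add_zero]
    | tmul n g =>
      rw [← algebraMap_smul A d (n ⊗ₜ[A] g), ← TensorProduct.tmul_smul, LinearMap.lTensor_tmul,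
        Submodule.mkQ_apply,
        (Submodule.Quotient.mk_eq_zero J).2 (Submodule.smul_mem_smul (Ideal.mem_map_of_mem _ hd) trivial),
        TensorProduct.tmul_zero]
  · exact smul_top_tensor_of_top I h

/-- the algebra behind stability of flatness at a point under base change -/
theorem flat_localized_baseChange {RT RX RY R A A' C F : Type u} [CommRing RT] [CommRing RX] [CommRing RY]
    [CommRing R] [CommRing A] [CommRing A'] [CommRing C] [Algebra RT RX] [Algebra RT RY] [Algebra RX R]
    [Algebra RY R] [Algebra RT R] [IsScalarTower RT RX R] [IsScalarTower RT RY R]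
    [Algebra.IsPushout RT RY RX R] [Algebra RX A] [Algebra RY A'] [Algebra R C] [Algebra RX C] [Algebra RY C]
    [IsScalarTower RX R C] [IsScalarTower RY R C] [Algebra A C] [Algebra A' C] [IsScalarTower RX A C]
    [IsScalarTower RY A' C] (SX : Submonoid RX) [IsLocalization SX A] (SY : Submonoid RY) [IsLocalization SY A']
    (SR : Submonoid R) [IsLocalization SR C] [AddCommGroup F] [Module A F] [Module RX F] [IsScalarTower RX A F]
    [Module RT F] [IsScalarTower RT RX F] [Module.Flat RT F] :
    Module.Flat A' (C ⊗[A] F) := by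
  haveI : Module.Flat RY (R ⊗[RX] F) :=
    Module.Flat.of_linearEquiv ((Algebra.IsPushout.cancelBaseChange RT RY RX R F).restrictScalars RY)
  haveI : Module.Flat R C := IsLocalization.flat C SR
  haveI : Module.Flat RY (C ⊗[R] (R ⊗[RX] F)) := flat_module_tensor
  let e₁ : C ⊗[R] (R ⊗[RX] F) ≃ₗ[C] C ⊗[RX] F := AlgebraTensorModule.cancelBaseChange RX R C C F
  haveI := IsLocalization.tensorProduct_compatibleSMul SX A C F
  let e₂ : C ⊗[A] F ≃ₗ[C] C ⊗[RX] F := TensorProduct.equivOfCompatibleSMul RX A C C F
  let e : C ⊗[A] F ≃ₗ[C] C ⊗[R] (R ⊗[RX] F) := e₂.trans e₁.symm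
  haveI : IsScalarTower RY C (C ⊗[A] F) := inferInstance
  haveI : IsScalarTower RY A' (C ⊗[A] F) := IsScalarTower.of_algebraMap_smul fun r x => by
    rw [← algebraMap_smul C (algebraMap RY A' r) x, ← IsScalarTower.algebraMap_apply, algebraMap_smul]
  haveI : Module.Flat RY (C ⊗[A] F) := Module.Flat.of_linearEquiv (e.restrictScalars RY)
  exact (Module.flat_iff_of_isLocalization A' SY _).2 inferInstance

end Alg

section Sch

variable {X Y Y' : Scheme.{u}}

/-- flatness at a point is stable under base change -/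
theorem isFlatOverAt_baseChange {X'' : Scheme.{u}} {f : X ⟶ Y} {g : Y' ⟶ Y} {p : X'' ⟶ X} {q : X'' ⟶ Y'}
    (sq : IsPullback p q f g) (F : X.Modules) (z : X'') (h : FlatMod.IsFlatOverAt f F (p z)) :
    FlatMod.IsFlatOverAt q ((Scheme.Modules.pullback p).obj F) z := by
  obtain ⟨T₀, hT₀, hzT, -⟩ := exists_isAffineOpen_mem_and_subset (x := f (p z)) (U := ⊤) trivial
  obtain ⟨Y₀, hY₀, hzY, hY₀T⟩ := exists_isAffineOpen_mem_and_subset (x := q z) (U := g ⁻¹ᵁ T₀) (by
    show g (q z) ∈ T₀
    rw [← Scheme.Hom.comp_apply, ← sq.w]; exact hzT)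
  obtain ⟨X₀, hX₀, hzX₀, hX₀T⟩ := exists_isAffineOpen_mem_and_subset (x := p z) (U := f ⁻¹ᵁ T₀) hzT
  obtain ⟨hO, hpo⟩ := LCILocusLib.pullback_chart sq hT₀ hY₀ hY₀T hX₀ hX₀T
  let O : X''.Opens := p ⁻¹ᵁ X₀ ⊓ q ⁻¹ᵁ Y₀
  have hzO : z ∈ O := ⟨hzX₀, hzY⟩
  have e₁ : O ≤ p ⁻¹ᵁ X₀ := inf_le_left
  have e₂ : O ≤ q ⁻¹ᵁ Y₀ := inf_le_right
  let B := Y.presheaf.stalk (f (p z))
  let A := X.presheaf.stalk (p z)
  let A' := Y'.presheaf.stalk (q z)
  let C := X''.presheaf.stalk z
  letI : Algebra Γ(Y, T₀) Γ(X, X₀) := (f.appLE T₀ X₀ hX₀T).hom.toAlgebra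
  letI : Algebra Γ(Y, T₀) Γ(Y', Y₀) := (g.appLE T₀ Y₀ hY₀T).hom.toAlgebra
  letI : Algebra Γ(X, X₀) Γ(X'', O) := (p.appLE X₀ O e₁).hom.toAlgebra
  letI : Algebra Γ(Y', Y₀) Γ(X'', O) := (q.appLE Y₀ O e₂).hom.toAlgebra
  letI : Algebra Γ(Y, T₀) Γ(X'', O) := ((p.appLE X₀ O e₁).hom.comp (f.appLE T₀ X₀ hX₀T).hom).toAlgebra
  haveI : IsScalarTower Γ(Y, T₀) Γ(X, X₀) Γ(X'', O) := IsScalarTower.of_algebraMap_eq fun _ => rfl
  haveI : IsScalarTower Γ(Y, T₀) Γ(Y', Y₀) Γ(X'', O) := IsScalarTower.of_algebraMap_eq fun a =>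
    RingHom.congr_fun (congrArg CommRingCat.Hom.hom hpo.w) a
  haveI : Algebra.IsPushout Γ(Y, T₀) Γ(Y', Y₀) Γ(X, X₀) Γ(X'', O) :=
    Algebra.IsPushout.symm (CommRingCat.isPushout_iff_isPushout.mp hpo)
  letI : Algebra Γ(Y, T₀) B := (Y.presheaf.germ T₀ (f (p z)) hzT).hom.toAlgebra
  letI : Algebra Γ(X, X₀) A := (X.presheaf.germ X₀ (p z) hzX₀).hom.toAlgebra
  letI : Algebra Γ(Y', Y₀) A' := (Y'.presheaf.germ Y₀ (q z) hzY).hom.toAlgebra
  letI : Algebra Γ(X'', O) C := (X''.presheaf.germ O z hzO).hom.toAlgebra
  haveI hB : IsLocalization (hT₀.primeIdealOf ⟨f (p z), hzT⟩).asIdeal.primeCompl B :=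
    hT₀.isLocalization_stalk ⟨f (p z), hzT⟩
  haveI hA : IsLocalization (hX₀.primeIdealOf ⟨p z, hzX₀⟩).asIdeal.primeCompl A :=
    hX₀.isLocalization_stalk ⟨p z, hzX₀⟩
  haveI hA' : IsLocalization (hY₀.primeIdealOf ⟨q z, hzY⟩).asIdeal.primeCompl A' :=
    hY₀.isLocalization_stalk ⟨q z, hzY⟩
  haveI hC : IsLocalization (hO.primeIdealOf ⟨z, hzO⟩).asIdeal.primeCompl C :=
    hO.isLocalization_stalk ⟨z, hzO⟩
  letI : Algebra B A := (f.stalkMap (p z)).hom.toAlgebra
  letI : Algebra A C := (p.stalkMap z).hom.toAlgebra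
  letI : Algebra A' C := (q.stalkMap z).hom.toAlgebra
  letI : Algebra Γ(X, X₀) C := ((algebraMap Γ(X'', O) C).comp (algebraMap Γ(X, X₀) Γ(X'', O))).toAlgebra
  letI : Algebra Γ(Y', Y₀) C := ((algebraMap Γ(X'', O) C).comp (algebraMap Γ(Y', Y₀) Γ(X'', O))).toAlgebra
  haveI : IsScalarTower Γ(X, X₀) Γ(X'', O) C := IsScalarTower.of_algebraMap_eq fun _ => rfl
  haveI : IsScalarTower Γ(Y', Y₀) Γ(X'', O) C := IsScalarTower.of_algebraMap_eq fun _ => rfl
  haveI : IsScalarTower Γ(X, X₀) A C := IsScalarTower.of_algebraMap_eq fun a => by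
    simp [RingHom.algebraMap_toAlgebra, Scheme.Hom.appLE, C, O]
    exact (Scheme.Hom.germ_stalkMap_apply p X₀ z hzX₀ a).symm
  haveI : IsScalarTower Γ(Y', Y₀) A' C := IsScalarTower.of_algebraMap_eq fun a => by
    simp [RingHom.algebraMap_toAlgebra, Scheme.Hom.appLE, C, O]
    exact (Scheme.Hom.germ_stalkMap_apply q Y₀ z hzY a).symm
  letI : Algebra Γ(Y, T₀) A := ((algebraMap B A).comp (algebraMap Γ(Y, T₀) B)).toAlgebra
  haveI : IsScalarTower Γ(Y, T₀) B A := IsScalarTower.of_algebraMap_eq fun _ => rfl
  haveI : IsScalarTower Γ(Y, T₀) Γ(X, X₀) A := IsScalarTower.of_algebraMap_eq fun a => by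
    simp [RingHom.algebraMap_toAlgebra, Scheme.Hom.appLE, A]
    exact Scheme.Hom.germ_stalkMap_apply f T₀ (p z) hzT a
  let M := F.presheaf.stalk (p z)
  letI : Module B M := FlatMod.moduleStalkOver f F (p z)
  haveI : IsScalarTower B A M := IsScalarTower.of_algebraMap_smul fun _ _ => rfl
  letI : Module Γ(X, X₀) M := Module.compHom _ (algebraMap Γ(X, X₀) A)
  haveI : IsScalarTower Γ(X, X₀) A M := IsScalarTower.of_algebraMap_smul fun _ _ => rfl
  letI : Module Γ(Y, T₀) M := Module.compHom _ (algebraMap Γ(Y, T₀) A)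
  haveI : IsScalarTower Γ(Y, T₀) A M := IsScalarTower.of_algebraMap_smul fun _ _ => rfl
  haveI : IsScalarTower Γ(Y, T₀) Γ(X, X₀) M := IsScalarTower.of_algebraMap_smul fun r m => by
    rw [← algebraMap_smul A (algebraMap Γ(Y, T₀) Γ(X, X₀) r) m, ← IsScalarTower.algebraMap_apply,
      algebraMap_smul]
  haveI : IsScalarTower Γ(Y, T₀) B M := IsScalarTower.of_algebraMap_smul fun r m => by
    rw [← algebraMap_smul A (algebraMap Γ(Y, T₀) B r) m, ← IsScalarTower.algebraMap_apply, algebraMap_smul]
  haveI : Module.Flat B M := h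
  haveI : Module.Flat Γ(Y, T₀) M :=
    (Module.flat_iff_of_isLocalization B (hT₀.primeIdealOf ⟨f (p z), hzT⟩).asIdeal.primeCompl M).1 inferInstance
  haveI : Module.Flat A' (C ⊗[A] M) := flat_localized_baseChange (RT := Γ(Y, T₀)) (RX := Γ(X, X₀))
    (RY := Γ(Y', Y₀)) (R := Γ(X'', O)) (hX₀.primeIdealOf ⟨p z, hzX₀⟩).asIdeal.primeCompl
    (hY₀.primeIdealOf ⟨q z, hzY⟩).asIdeal.primeCompl (hO.primeIdealOf ⟨z, hzO⟩).asIdeal.primeCompl
  let e : ((Scheme.Modules.pullback p).obj F).presheaf.stalk z ≃ₗ[C] C ⊗[A] M :=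
    ((KFlatLib.stalkPullIso p z).app F).toLinearEquiv
  letI : Module A' (((Scheme.Modules.pullback p).obj F).presheaf.stalk z) :=
    FlatMod.moduleStalkOver q _ z
  haveI : IsScalarTower A' C (((Scheme.Modules.pullback p).obj F).presheaf.stalk z) :=
    IsScalarTower.of_algebraMap_smul fun _ _ => rfl
  exact Module.Flat.of_linearEquiv (e.restrictScalars A')

/-- the stalk of `M ⊗ q^*G` -/
theorem nonempty_stalk_tensor_right {X'' : Scheme.{u}} (q : X'' ⟶ Y') (M : X''.Modules) (G : Y'.Modules) (z : X'') :
    letI : Algebra (Y'.presheaf.stalk (q z)) (X''.presheaf.stalk z) := (q.stalkMap z).hom.toAlgebra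
    letI : Module (Y'.presheaf.stalk (q z)) (M.presheaf.stalk z) := FlatMod.moduleStalkOver q M z
    haveI : IsScalarTower (Y'.presheaf.stalk (q z)) (X''.presheaf.stalk z) (M.presheaf.stalk z) :=
      IsScalarTower.of_algebraMap_smul fun _ _ => rfl
    Nonempty ((CohB1.tensorMod M ((Scheme.Modules.pullback q).obj G)).presheaf.stalk z ≃ₗ[X''.presheaf.stalk z]
      M.presheaf.stalk z ⊗[Y'.presheaf.stalk (q z)] G.presheaf.stalk (q z)) := by
  letI : Algebra (Y'.presheaf.stalk (q z)) (X''.presheaf.stalk z) := (q.stalkMap z).hom.toAlgebra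
  letI : Module (Y'.presheaf.stalk (q z)) (M.presheaf.stalk z) := FlatMod.moduleStalkOver q M z
  haveI : IsScalarTower (Y'.presheaf.stalk (q z)) (X''.presheaf.stalk z) (M.presheaf.stalk z) :=
      IsScalarTower.of_algebraMap_smul fun _ _ => rfl
  let A := Y'.presheaf.stalk (q z)
  let B := X''.presheaf.stalk z
  let e₁ : ((Scheme.Modules.pullback q).obj G).presheaf.stalk z ≃ₗ[B] B ⊗[A] G.presheaf.stalk (q z) :=
    ((KFlatLib.stalkPullIso q z).app G).toLinearEquiv
  exact ⟨(((LinearEquiv.ofBijective (KFlatLib.stalkTensorLin M _ z)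
      (KFlatLib.stalkTensorLin_bijective M _ z)).symm).trans
    (TensorProduct.congr (LinearEquiv.refl B _) e₁)).trans
      (AlgebraTensorModule.cancelBaseChange A B B (M.presheaf.stalk z) (G.presheaf.stalk (q z)))⟩

/-- the stalk of the restriction to a fibre is the closed fibre of the stalk -/
theorem nontrivial_stalk_fiber_iff (f : X ⟶ Y) (F : X.Modules) (s : Y) (w : f.fiber s) :
    Nontrivial (((Scheme.Modules.pullback (f.fiberι s)).obj F).presheaf.stalk w) ↔
      (letI := FlatMod.moduleStalkOver f F (f.fiberι s w)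
       maximalIdeal (Y.presheaf.stalk (f (f.fiberι s w))) •
        (⊤ : Submodule (Y.presheaf.stalk (f (f.fiberι s w))) (F.presheaf.stalk (f.fiberι s w))) ≠ ⊤) := by
  let B := Y.presheaf.stalk (f (f.fiberι s w))
  let A := X.presheaf.stalk (f.fiberι s w)
  let C := (f.fiber s).presheaf.stalk w
  letI : Algebra B A := (f.stalkMap (f.fiberι s w)).hom.toAlgebra
  letI : Algebra A C := ((f.fiberι s).stalkMap w).hom.toAlgebra
  let M := F.presheaf.stalk (f.fiberι s w)
  letI : Module B M := FlatMod.moduleStalkOver f F (f.fiberι s w)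
  haveI : IsScalarTower B A M := IsScalarTower.of_algebraMap_smul fun _ _ => rfl
  let e : ((Scheme.Modules.pullback (f.fiberι s)).obj F).presheaf.stalk w ≃ₗ[C] C ⊗[A] M :=
    ((KFlatLib.stalkPullIso (f.fiberι s) w).app F).toLinearEquiv
  obtain ⟨hsur, hker⟩ := Groth.Agent.S9501.result f s w
  let I : Ideal A := RingHom.ker (Algebra.ofId A C)
  have hI : I = (maximalIdeal B).map (algebraMap B A) := hker
  let eC : (A ⧸ I) ≃ₐ[A] C := Ideal.quotientKerAlgEquivOfSurjective (f := Algebra.ofId A C) hsur
  let e' : C ⊗[A] M ≃ₗ[A] M ⧸ (I • (⊤ : Submodule A M)) :=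
    (TensorProduct.congr eC.symm.toLinearEquiv (LinearEquiv.refl A M)).trans
      (TensorProduct.quotTensorEquivQuotSMul M I)
  change Nontrivial _ ↔ maximalIdeal B • (⊤ : Submodule B M) ≠ ⊤
  rw [e.toEquiv.nontrivial_congr, e'.toEquiv.nontrivial_congr, Submodule.Quotient.nontrivial_iff, hI]
  refine not_congr ?_
  rw [← Submodule.restrictScalars_eq_top_iff B A M, Submodule.restrictScalars_map_smul_eq,
    Submodule.restrictScalars_top]

/-- a faithfully flat module on the base stays nonzero in every fibre -/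
theorem exists_point_over {f : X ⟶ Y} (g : Y' ⟶ Y) (F : X.Modules) (y' : Y') (x : X) (hx : f x = g y')
    (hne : letI := FlatMod.moduleStalkOver f F x
      maximalIdeal (Y.presheaf.stalk (f x)) • (⊤ : Submodule (Y.presheaf.stalk (f x)) (F.presheaf.stalk x)) ≠ ⊤) :
    ∃ z : ↥(pullback f g), pullback.snd f g z = y' ∧
      (letI := FlatMod.moduleStalkOver (pullback.snd f g) ((Scheme.Modules.pullback (pullback.fst f g)).obj F) z
       maximalIdeal (Y'.presheaf.stalk (pullback.snd f g z)) • (⊤ : Submodule (Y'.presheaf.stalk (pullback.snd f g z))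
          (((Scheme.Modules.pullback (pullback.fst f g)).obj F).presheaf.stalk z)) ≠ ⊤) := by
  let p := pullback.fst f g
  let q := pullback.snd f g
  let j := q.fiberι y'
  let a := Y'.fromSpecResidueField y'
  let r := Spec.map (g.residueFieldMap y')
  haveI : Flat r := by
    rw [HasRingHomProperty.Spec_iff (P := @Flat)]
    letI := (g.residueFieldMap y').hom.toAlgebra
    exact (inferInstance : Module.Flat (Y.residueField (g y')) (Y'.residueField y'))
  haveI : Surjective r := ⟨fun b => ⟨IsLocalRing.closedPoint _, Subsingleton.elim _ _⟩⟩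
  have sqQ : IsPullback (j ≫ p) (q.fiberToSpecResidueField y') f (a ≫ g) :=
    (IsPullback.of_hasPullback q a).paste_horiz (IsPullback.of_hasPullback f g)
  have sqY : IsPullback (f.fiberι (g y')) (f.fiberToSpecResidueField (g y')) f (Y.fromSpecResidueField (g y')) :=
    IsPullback.of_hasPullback f _
  have hr : r ≫ Y.fromSpecResidueField (g y') = a ≫ g := Scheme.Hom.SpecMap_residueFieldMap_fromSpecResidueField g y'
  let π : q.fiber y' ⟶ f.fiber (g y') := sqY.lift (j ≫ p) (q.fiberToSpecResidueField y' ≫ r)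
    (by rw [Category.assoc _ r, hr]; exact sqQ.w)
  have hπ : π ≫ f.fiberι (g y') = j ≫ p := sqY.lift_fst _ _ _
  have sqπ : IsPullback π (q.fiberToSpecResidueField y') (f.fiberToSpecResidueField (g y')) r :=
    IsPullback.of_right (by rw [hπ, hr]; exact sqQ) (sqY.lift_snd _ _ _) sqY
  haveI : Flat π := MorphismProperty.of_isPullback sqπ.flip inferInstance
  haveI : Surjective π := MorphismProperty.of_isPullback sqπ.flip inferInstance
  obtain ⟨w, rfl⟩ : ∃ w : f.fiber (g y'), f.fiberι (g y') w = x := (f.range_fiberι (g y')).ge hx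
  obtain ⟨u, rfl⟩ := π.surjective w
  refine ⟨j u, (q.range_fiberι y').le ⟨u, rfl⟩, ?_⟩
  refine (nontrivial_stalk_fiber_iff q _ y' u).1 ?_
  let G₀ := (Scheme.Modules.pullback (f.fiberι (g y'))).obj F
  haveI : Nontrivial (G₀.presheaf.stalk (π u)) := (nontrivial_stalk_fiber_iff f F (g y') (π u)).2 hne
  let e : (Scheme.Modules.pullback π).obj G₀ ≅
      (Scheme.Modules.pullback j).obj ((Scheme.Modules.pullback p).obj F) :=
    (Scheme.Modules.pullbackComp π (f.fiberι (g y'))).app F ≪≫ (Scheme.Modules.pullbackCongr hπ).app F ≪≫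
      ((Scheme.Modules.pullbackComp j p).app F).symm
  refine ((DerSch.stalkFunctor _ u).mapIso e).toLinearEquiv.toEquiv.nontrivial_congr.1 ?_
  let C₁ := (f.fiber (g y')).presheaf.stalk (π u)
  let C₂ := (q.fiber y').presheaf.stalk u
  letI : Algebra C₁ C₂ := (π.stalkMap u).hom.toAlgebra
  haveI : IsLocalHom (algebraMap C₁ C₂) := inferInstanceAs (IsLocalHom (π.stalkMap u).hom)
  haveI : Module.Flat C₁ C₂ := Flat.stalkMap π u
  haveI : Module.FaithfullyFlat C₁ C₂ := Module.FaithfullyFlat.of_flat_of_isLocalHom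
  let e₂ : ((Scheme.Modules.pullback π).obj G₀).presheaf.stalk u ≃ₗ[C₂] C₂ ⊗[C₁] G₀.presheaf.stalk (π u) :=
    ((KFlatLib.stalkPullIso π u).app G₀).toLinearEquiv
  haveI := Module.FaithfullyFlat.lTensor_nontrivial C₁ C₂ (G₀.presheaf.stalk (π u))
  exact e₂.toEquiv.nontrivial

section Tensor

variable {Z : Scheme.{u}} (f : X ⟶ Y) (g : Y' ⟶ Y) (h : Y' ⟶ Z) (F : X.Modules) (G' : Y'.Modules)
  (x' : ↥(pullback f g))

/-- `p^*F ⊗ q^*G'` at a point, over the base of `G'` -/
theorem stalk_tensor_over :
    letI := (h.stalkMap (pullback.snd f g x')).hom.toAlgebra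
    letI : Module (Y'.presheaf.stalk (pullback.snd f g x'))
        (((Scheme.Modules.pullback (pullback.fst f g)).obj F).presheaf.stalk x') :=
      FlatMod.moduleStalkOver (pullback.snd f g) _ x'
    letI : Module (Z.presheaf.stalk (h (pullback.snd f g x')))
        ((CohB1.tensorMod ((Scheme.Modules.pullback (pullback.fst f g)).obj F)
          ((Scheme.Modules.pullback (pullback.snd f g)).obj G')).presheaf.stalk x') :=
      FlatMod.moduleStalkOver (pullback.snd f g ≫ h) _ x'
    letI : Module (Z.presheaf.stalk (h (pullback.snd f g x')))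
        (((Scheme.Modules.pullback (pullback.fst f g)).obj F).presheaf.stalk x') :=
      Module.compHom _ (h.stalkMap (pullback.snd f g x')).hom
    haveI : IsScalarTower (Z.presheaf.stalk (h (pullback.snd f g x'))) (Y'.presheaf.stalk (pullback.snd f g x'))
        (((Scheme.Modules.pullback (pullback.fst f g)).obj F).presheaf.stalk x') :=
      IsScalarTower.of_algebraMap_smul fun _ _ => rfl
    haveI : SMulCommClass (Y'.presheaf.stalk (pullback.snd f g x')) (Z.presheaf.stalk (h (pullback.snd f g x')))
        (((Scheme.Modules.pullback (pullback.fst f g)).obj F).presheaf.stalk x') :=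
      ⟨fun a d n => by
        rw [← algebraMap_smul (Y'.presheaf.stalk (pullback.snd f g x')) d n,
          ← algebraMap_smul (Y'.presheaf.stalk (pullback.snd f g x')) d (a • n), smul_comm]⟩
    Nonempty (((CohB1.tensorMod ((Scheme.Modules.pullback (pullback.fst f g)).obj F)
          ((Scheme.Modules.pullback (pullback.snd f g)).obj G')).presheaf.stalk x') ≃ₗ[Z.presheaf.stalk (h (pullback.snd f g x'))]
      (((Scheme.Modules.pullback (pullback.fst f g)).obj F).presheaf.stalk x') ⊗[Y'.presheaf.stalk (pullback.snd f g x')]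
        G'.presheaf.stalk (pullback.snd f g x')) := by
  let q := pullback.snd f g
  let C := (pullback f g).presheaf.stalk x'
  let A' := Y'.presheaf.stalk (q x')
  let D := Z.presheaf.stalk (h (q x'))
  let N := ((Scheme.Modules.pullback (pullback.fst f g)).obj F).presheaf.stalk x'
  letI : Algebra D A' := (h.stalkMap (q x')).hom.toAlgebra
  letI : Module A' N := FlatMod.moduleStalkOver q _ x'
  letI : Module D N := Module.compHom _ (h.stalkMap (q x')).hom
  haveI : IsScalarTower D A' N := IsScalarTower.of_algebraMap_smul fun _ _ => rfl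
  letI : Module D ((CohB1.tensorMod ((Scheme.Modules.pullback (pullback.fst f g)).obj F)
      ((Scheme.Modules.pullback (pullback.snd f g)).obj G')).presheaf.stalk x') :=
    FlatMod.moduleStalkOver (q ≫ h) _ x'
  obtain ⟨e⟩ := nonempty_stalk_tensor_right q ((Scheme.Modules.pullback (pullback.fst f g)).obj F) G' x'
  refine ⟨{ toFun := e, invFun := e.symm, left_inv := e.left_inv, right_inv := e.right_inv,
            map_add' := map_add e, map_smul' := fun d m => ?_ }⟩
  change e (((q ≫ h).stalkMap x').hom d • m) = d • e m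
  rw [map_smul e, Scheme.Hom.stalkMap_comp]
  generalize e m = t
  change (q.stalkMap x').hom ((h.stalkMap (q x')).hom d) • t = d • t
  induction t with
  | zero => simp
  | add a b ha hb => rw [smul_add, smul_add, ha, hb]
  | tmul n m' => rfl

theorem isFlatOverAt_tensor (hFx : FlatMod.IsFlatOverAt f F (pullback.fst f g x'))
    (hGy : FlatMod.IsFlatOverAt h G' (pullback.snd f g x')) :
    FlatMod.IsFlatOverAt (pullback.snd f g ≫ h) (CohB1.tensorMod ((Scheme.Modules.pullback (pullback.fst f g)).obj F)
      ((Scheme.Modules.pullback (pullback.snd f g)).obj G')) x' := by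
  let A' := Y'.presheaf.stalk (pullback.snd f g x')
  let D := Z.presheaf.stalk (h (pullback.snd f g x'))
  let N := ((Scheme.Modules.pullback (pullback.fst f g)).obj F).presheaf.stalk x'
  let G := G'.presheaf.stalk (pullback.snd f g x')
  letI : Algebra D A' := (h.stalkMap (pullback.snd f g x')).hom.toAlgebra
  letI : Module A' N := FlatMod.moduleStalkOver (pullback.snd f g) _ x'
  letI : Module D N := Module.compHom _ (h.stalkMap (pullback.snd f g x')).hom
  haveI : IsScalarTower D A' N := IsScalarTower.of_algebraMap_smul fun _ _ => rfl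
  letI : Module D G := FlatMod.moduleStalkOver h G' _
  haveI : IsScalarTower D A' G := IsScalarTower.of_algebraMap_smul fun _ _ => rfl
  haveI : Module.Flat A' N := isFlatOverAt_baseChange (IsPullback.of_hasPullback f g) F x' hFx
  haveI : Module.Flat D G := hGy
  haveI : Module.Flat D (N ⊗[A'] G) := flat_module_tensor
  obtain ⟨e⟩ := stalk_tensor_over f g h F G' x'
  letI : Module D ((CohB1.tensorMod ((Scheme.Modules.pullback (pullback.fst f g)).obj F)
      ((Scheme.Modules.pullback (pullback.snd f g)).obj G')).presheaf.stalk x') :=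
    FlatMod.moduleStalkOver (pullback.snd f g ≫ h) _ x'
  exact (Module.Flat.of_linearEquiv e : Module.Flat D _)

theorem faithfullyFlat_stalk (hFx : FlatMod.IsFlatOverAt f F (pullback.fst f g x'))
    (hne : letI := FlatMod.moduleStalkOver (pullback.snd f g) ((Scheme.Modules.pullback (pullback.fst f g)).obj F) x'
      maximalIdeal (Y'.presheaf.stalk (pullback.snd f g x')) • (⊤ : Submodule (Y'.presheaf.stalk (pullback.snd f g x'))
          (((Scheme.Modules.pullback (pullback.fst f g)).obj F).presheaf.stalk x')) ≠ ⊤) :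
    letI := FlatMod.moduleStalkOver (pullback.snd f g) ((Scheme.Modules.pullback (pullback.fst f g)).obj F) x'
    Module.FaithfullyFlat (Y'.presheaf.stalk (pullback.snd f g x'))
      (((Scheme.Modules.pullback (pullback.fst f g)).obj F).presheaf.stalk x') := by
  letI := FlatMod.moduleStalkOver (pullback.snd f g) ((Scheme.Modules.pullback (pullback.fst f g)).obj F) x'
  haveI : Module.Flat (Y'.presheaf.stalk (pullback.snd f g x'))
      (((Scheme.Modules.pullback (pullback.fst f g)).obj F).presheaf.stalk x') :=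
    isFlatOverAt_baseChange (IsPullback.of_hasPullback f g) F x' hFx
  refine ⟨fun {m} hm => ?_⟩
  obtain rfl : m = maximalIdeal _ := IsLocalRing.eq_maximalIdeal hm
  exact hne

theorem isFlatOverAt_of_tensor (hFx : FlatMod.IsFlatOverAt f F (pullback.fst f g x'))
    (hne : letI := FlatMod.moduleStalkOver (pullback.snd f g) ((Scheme.Modules.pullback (pullback.fst f g)).obj F) x'
      maximalIdeal (Y'.presheaf.stalk (pullback.snd f g x')) • (⊤ : Submodule (Y'.presheaf.stalk (pullback.snd f g x'))
          (((Scheme.Modules.pullback (pullback.fst f g)).obj F).presheaf.stalk x')) ≠ ⊤)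
    (hM : FlatMod.IsFlatOverAt (pullback.snd f g ≫ h) (CohB1.tensorMod ((Scheme.Modules.pullback (pullback.fst f g)).obj F)
      ((Scheme.Modules.pullback (pullback.snd f g)).obj G')) x') :
    FlatMod.IsFlatOverAt h G' (pullback.snd f g x') := by
  let A' := Y'.presheaf.stalk (pullback.snd f g x')
  let D := Z.presheaf.stalk (h (pullback.snd f g x'))
  let N := ((Scheme.Modules.pullback (pullback.fst f g)).obj F).presheaf.stalk x'
  let G := G'.presheaf.stalk (pullback.snd f g x')
  letI : Algebra D A' := (h.stalkMap (pullback.snd f g x')).hom.toAlgebra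
  letI : Module A' N := FlatMod.moduleStalkOver (pullback.snd f g) _ x'
  letI : Module D N := Module.compHom _ (h.stalkMap (pullback.snd f g x')).hom
  haveI : IsScalarTower D A' N := IsScalarTower.of_algebraMap_smul fun _ _ => rfl
  letI : Module D G := FlatMod.moduleStalkOver h G' _
  haveI : IsScalarTower D A' G := IsScalarTower.of_algebraMap_smul fun _ _ => rfl
  haveI : Module.FaithfullyFlat A' N := faithfullyFlat_stalk f g F x' hFx hne
  obtain ⟨e⟩ := stalk_tensor_over f g h F G' x'
  letI : Module D ((CohB1.tensorMod ((Scheme.Modules.pullback (pullback.fst f g)).obj F)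
      ((Scheme.Modules.pullback (pullback.snd f g)).obj G')).presheaf.stalk x') :=
    FlatMod.moduleStalkOver (pullback.snd f g ≫ h) _ x'
  haveI : Module.Flat (Z.presheaf.stalk (h (pullback.snd f g x')))
      ((CohB1.tensorMod ((Scheme.Modules.pullback (pullback.fst f g)).obj F)
        ((Scheme.Modules.pullback (pullback.snd f g)).obj G')).presheaf.stalk x') := hM
  haveI : Module.Flat D (N ⊗[A'] G) := Module.Flat.of_linearEquiv e.symm
  exact (flat_of_module_tensor (A := A') (N := N) : Module.Flat D G)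

/-- the closed fibre over the base of `G'` -/
theorem smul_top_of_linearEquiv {D M M' : Type u} [CommRing D] [AddCommGroup M] [Module D M] [AddCommGroup M']
    [Module D M'] (e : M ≃ₗ[D] M') (I : Ideal D) :
    I • (⊤ : Submodule D M) ≠ ⊤ ↔ I • (⊤ : Submodule D M') ≠ ⊤ := by
  refine not_congr ?_
  have hmap : (I • (⊤ : Submodule D M)).map e.toLinearMap = I • (⊤ : Submodule D M') := by
    rw [Submodule.map_smul'', Submodule.map_top, LinearEquiv.range]
  have htop : (⊤ : Submodule D M).map e.toLinearMap = ⊤ := by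
    rw [Submodule.map_top, LinearEquiv.range]
  rw [← hmap]
  exact ⟨fun h => by rw [h, htop], fun h => Submodule.map_injective_of_injective e.injective (h.trans htop.symm)⟩

theorem smul_top_tensor_stalk_iff (hFx : FlatMod.IsFlatOverAt f F (pullback.fst f g x'))
    (hne : letI := FlatMod.moduleStalkOver (pullback.snd f g) ((Scheme.Modules.pullback (pullback.fst f g)).obj F) x'
      maximalIdeal (Y'.presheaf.stalk (pullback.snd f g x')) • (⊤ : Submodule (Y'.presheaf.stalk (pullback.snd f g x'))
          (((Scheme.Modules.pullback (pullback.fst f g)).obj F).presheaf.stalk x')) ≠ ⊤) :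
    (letI := FlatMod.moduleStalkOver (pullback.snd f g ≫ h) (CohB1.tensorMod ((Scheme.Modules.pullback (pullback.fst f g)).obj F)
        ((Scheme.Modules.pullback (pullback.snd f g)).obj G')) x'
     maximalIdeal (Z.presheaf.stalk ((pullback.snd f g ≫ h) x')) •
      (⊤ : Submodule (Z.presheaf.stalk ((pullback.snd f g ≫ h) x'))
        ((CohB1.tensorMod ((Scheme.Modules.pullback (pullback.fst f g)).obj F)
          ((Scheme.Modules.pullback (pullback.snd f g)).obj G')).presheaf.stalk x')) ≠ ⊤) ↔
    (letI := FlatMod.moduleStalkOver h G' (pullback.snd f g x')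
     maximalIdeal (Z.presheaf.stalk (h (pullback.snd f g x'))) •
      (⊤ : Submodule (Z.presheaf.stalk (h (pullback.snd f g x'))) (G'.presheaf.stalk (pullback.snd f g x'))) ≠ ⊤) := by
  let A' := Y'.presheaf.stalk (pullback.snd f g x')
  let D := Z.presheaf.stalk (h (pullback.snd f g x'))
  let N := ((Scheme.Modules.pullback (pullback.fst f g)).obj F).presheaf.stalk x'
  let G := G'.presheaf.stalk (pullback.snd f g x')
  letI : Algebra D A' := (h.stalkMap (pullback.snd f g x')).hom.toAlgebra
  letI : Module A' N := FlatMod.moduleStalkOver (pullback.snd f g) _ x'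
  letI : Module D N := Module.compHom _ (h.stalkMap (pullback.snd f g x')).hom
  haveI : IsScalarTower D A' N := IsScalarTower.of_algebraMap_smul fun _ _ => rfl
  letI : Module D G := FlatMod.moduleStalkOver h G' _
  haveI : IsScalarTower D A' G := IsScalarTower.of_algebraMap_smul fun _ _ => rfl
  haveI : Module.FaithfullyFlat A' N := faithfullyFlat_stalk f g F x' hFx hne
  obtain ⟨e⟩ := stalk_tensor_over f g h F G' x'
  letI : Module D ((CohB1.tensorMod ((Scheme.Modules.pullback (pullback.fst f g)).obj F)
      ((Scheme.Modules.pullback (pullback.snd f g)).obj G')).presheaf.stalk x') :=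
    FlatMod.moduleStalkOver (pullback.snd f g ≫ h) _ x'
  exact (smul_top_of_linearEquiv e (maximalIdeal D)).trans
    (smul_top_tensor_iff (A := A') (N := N) (G := G) (maximalIdeal D))

theorem smul_top_of_tensor_stalk
    (hM : letI := FlatMod.moduleStalkOver (pullback.snd f g ≫ h) (CohB1.tensorMod ((Scheme.Modules.pullback (pullback.fst f g)).obj F)
        ((Scheme.Modules.pullback (pullback.snd f g)).obj G')) x'
     maximalIdeal (Z.presheaf.stalk ((pullback.snd f g ≫ h) x')) •
      (⊤ : Submodule (Z.presheaf.stalk ((pullback.snd f g ≫ h) x'))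
        ((CohB1.tensorMod ((Scheme.Modules.pullback (pullback.fst f g)).obj F)
          ((Scheme.Modules.pullback (pullback.snd f g)).obj G')).presheaf.stalk x')) ≠ ⊤) :
    (letI := FlatMod.moduleStalkOver h G' (pullback.snd f g x')
     maximalIdeal (Z.presheaf.stalk (h (pullback.snd f g x'))) •
      (⊤ : Submodule (Z.presheaf.stalk (h (pullback.snd f g x'))) (G'.presheaf.stalk (pullback.snd f g x'))) ≠ ⊤) := by
  let A' := Y'.presheaf.stalk (pullback.snd f g x')
  let D := Z.presheaf.stalk (h (pullback.snd f g x'))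
  let N := ((Scheme.Modules.pullback (pullback.fst f g)).obj F).presheaf.stalk x'
  let G := G'.presheaf.stalk (pullback.snd f g x')
  letI : Algebra D A' := (h.stalkMap (pullback.snd f g x')).hom.toAlgebra
  letI : Module A' N := FlatMod.moduleStalkOver (pullback.snd f g) _ x'
  letI : Module D N := Module.compHom _ (h.stalkMap (pullback.snd f g x')).hom
  haveI : IsScalarTower D A' N := IsScalarTower.of_algebraMap_smul fun _ _ => rfl
  letI : Module D G := FlatMod.moduleStalkOver h G' _
  haveI : IsScalarTower D A' G := IsScalarTower.of_algebraMap_smul fun _ _ => rfl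
  obtain ⟨e⟩ := stalk_tensor_over f g h F G' x'
  letI : Module D ((CohB1.tensorMod ((Scheme.Modules.pullback (pullback.fst f g)).obj F)
      ((Scheme.Modules.pullback (pullback.snd f g)).obj G')).presheaf.stalk x') :=
    FlatMod.moduleStalkOver (pullback.snd f g ≫ h) _ x'
  intro hG
  refine (smul_top_of_linearEquiv e (maximalIdeal D)).1 hM ?_
  exact smul_top_tensor_of_top (A := A') (N := N) (G := G) (maximalIdeal D) hG

end Tensor

end Sch

end FDescTensLib
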